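import Groth.Agent.LocCohLib.Transform
import Groth.Agent.PushCompl.Sections
import Mathlib

/-! Finiteness of `H^1_I` from finiteness of the families of germs off `V(I)`. -/

set_option autoImplicit false
set_option linter.style.haveILetI false
set_option backward.isDefEq.respectTransparency false
universe u

open Groth.Agent.ZClosFin

namespace Groth.Agent.FiniteH1

variable {A : Type u} [CommRing A] [IsNoetherianRing A] (I : Ideal A) (M : Type u) [AddCommGroup M] [Module A M]

local notation "Z" => PushCompl.V A I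

theorem toLoc_eq_of_toDT_eq (p : Out Z) {x y : M} (h : LocCoh.toDT I M x = LocCoh.toDT I M y) :
    toLoc Z M p x = toLoc Z M p y := by
  have h0 : LocCoh.toDT I (ModuleCat.of A M) (x - y) = 0 := by
    change LocCoh.toDT I M (x - y) = 0
    rw [map_sub, h, sub_self]
  obtain ⟨k, hk⟩ := (LocCohLib.toDT_eq_zero_iff (M := ModuleCat.of A M) (x - y)).1 h0
  obtain ⟨a, haI, hap⟩ := Set.not_subset.mp (show ¬ I ≤ p.1.asIdeal from p.2)
  apply smul_cancel Z (s := a ^ k) (fun h' => hap (p.1.isPrime.mem_of_pow_mem k h'))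
  rw [← map_smul, ← map_smul, ← sub_eq_zero, ← map_sub, ← smul_sub, hk _ (Ideal.pow_mem_pow haI k), map_zero]

/-- `c` is the germ of `d` at `p`. -/
def IsGerm (p : Out Z) (d : LocCoh.DT I M) (c : Loc Z M p) : Prop :=
  ∀ (a : A) (x : M), a • d = LocCoh.toDT I M x → a • c = toLoc Z M p x

theorem exists_frac (p : Out Z) (d : LocCoh.DT I M) :
    ∃ (a : A) (x : M), a ∉ p.1.asIdeal ∧ a • d = LocCoh.toDT I M x := by
  obtain ⟨n, hn⟩ := LocCohLib.exists_pow_smul_mem_range (M := ModuleCat.of A M) d
  obtain ⟨a, haI, hap⟩ := Set.not_subset.mp (show ¬ I ≤ p.1.asIdeal from p.2)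
  obtain ⟨x, hx⟩ := hn (a ^ n) (Ideal.pow_mem_pow haI n)
  exact ⟨a ^ n, x, fun h' => hap (p.1.isPrime.mem_of_pow_mem n h'), hx.symm⟩

theorem isGerm_of (p : Out Z) {d : LocCoh.DT I M} {a : A} {x : M} {c : Loc Z M p} (ha : a ∉ p.1.asIdeal)
    (hd : a • d = LocCoh.toDT I M x) (hc : a • c = toLoc Z M p x) : IsGerm I M p d c := fun b y hb => by
  apply smul_cancel Z ha
  rw [smul_comm, hc, ← map_smul, ← map_smul]
  refine toLoc_eq_of_toDT_eq I M p ?_
  rw [map_smul, map_smul, ← hd, ← hb, smul_comm]

theorem exists_germ (p : Out Z) (d : LocCoh.DT I M) : ∃ c, IsGerm I M p d c := by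
  obtain ⟨a, x, ha, hd⟩ := exists_frac I M p d
  refine ⟨LocalizedModule.mk x (⟨a, ha⟩ : p.1.asIdeal.primeCompl), isGerm_of I M p ha hd ?_⟩
  rw [LocalizedModule.smul'_mk, LocalizedModule.mkLinearMap_apply]
  exact LocalizedModule.mk_cancel (⟨a, ha⟩ : p.1.asIdeal.primeCompl) x

theorem isGerm_unique {p : Out Z} {d : LocCoh.DT I M} {c c' : Loc Z M p} (h : IsGerm I M p d c)
    (h' : IsGerm I M p d c') : c = c' := by
  obtain ⟨a, x, ha, hd⟩ := exists_frac I M p d
  exact smul_cancel Z ha ((h a x hd).trans (h' a x hd).symm)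

/-- The germs of an element of the ideal transform. -/
noncomputable def germ (d : LocCoh.DT I M) (p : Out Z) : Loc Z M p := (exists_germ I M p d).choose

theorem germ_spec (d : LocCoh.DT I M) (p : Out Z) : IsGerm I M p d (germ I M d p) :=
  (exists_germ I M p d).choose_spec

/-- The ideal transform maps to the families of germs. -/
noncomputable def ofDT : LocCoh.DT I M →ₗ[A] G Z M where
  toFun d := ⟨germ I M d, fun y => by
    obtain ⟨a, x, ha, hd⟩ := exists_frac I M y d
    exact ⟨a, ha, x, fun p _ => germ_spec I M d p a x hd⟩⟩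
  map_add' d d' := Subtype.ext (funext fun p => by
    obtain ⟨a, x, ha, hd⟩ := exists_frac I M p d
    obtain ⟨b, y, hb, hd'⟩ := exists_frac I M p d'
    refine isGerm_unique I M (germ_spec I M (d + d') p)
      (isGerm_of I M p (a := a * b) (x := b • x + a • y) (fun h => (p.1.isPrime.mem_or_mem h).elim ha hb) ?_ ?_)
    · rw [smul_add, map_add, map_smul, map_smul, ← hd, ← hd', mul_smul, mul_smul, smul_comm a b d]
    · change (a * b) • (germ I M d p + germ I M d' p) = _
      rw [smul_add, map_add, map_smul, map_smul, ← germ_spec I M d p a x hd, ← germ_spec I M d' p b y hd',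
        mul_smul, mul_smul, smul_comm a b (germ I M d p)])
  map_smul' r d := Subtype.ext (funext fun p => by
    obtain ⟨a, x, ha, hd⟩ := exists_frac I M p d
    refine isGerm_unique I M (germ_spec I M (r • d) p) (isGerm_of I M p (x := r • x) ha ?_ ?_)
    · rw [map_smul, ← hd, smul_comm]
    · change a • (r • germ I M d p) = _
      rw [map_smul, ← germ_spec I M d p a x hd, smul_comm])

theorem ofDT_injective : Function.Injective (ofDT I M) := by
  refine (injective_iff_map_eq_zero _).mpr fun d hd => ?_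
  obtain ⟨n, hn⟩ := LocCohLib.exists_pow_smul_mem_range (M := ModuleCat.of A M) d
  refine LocCohLib.DT_ext (M := ModuleCat.of A M) n fun a ha => ?_
  obtain ⟨x, hx⟩ := hn a ha
  have hz : ∀ p : Out Z, toLoc Z M p x = 0 := fun p => by
    have h := germ_spec I M d p a x hx.symm
    rw [show germ I M d p = 0 from congrFun (congrArg Subtype.val hd) p, smul_zero] at h
    exact h.symm
  let J : Ideal A := (⊥ : Submodule A M).colon {x}
  have hJ : I ≤ J.radical := by
    rw [← PrimeSpectrum.zeroLocus_subset_zeroLocus_iff]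
    intro p hp
    by_contra hpI
    obtain ⟨t, ht⟩ := (IsLocalizedModule.eq_zero_iff p.asIdeal.primeCompl (toLoc Z M ⟨p, hpI⟩)).mp (hz ⟨p, hpI⟩)
    exact t.2 (hp (Submodule.mem_colon_singleton.mpr ((Submodule.mem_bot A).mpr ht)))
  obtain ⟨k, hk⟩ := Ideal.exists_pow_le_of_le_radical_of_fg hJ (IsNoetherian.noetherian I)
  rw [smul_zero, ← hx]
  exact (LocCohLib.toDT_eq_zero_iff (M := ModuleCat.of A M) x).2
    ⟨k, fun b hb => (Submodule.mem_bot A).mp (Submodule.mem_colon_singleton.mp (hk hb))⟩

/-- Finite families of germs give finite first local cohomology. -/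
theorem finite_H1 [IsNoetherian A (G Z M)] : Module.Finite A (LocCoh.H I 1 M) := by
  haveI : Module.Finite A (LocCoh.DT I M) := Module.Finite.of_injective (ofDT I M) (ofDT_injective I M)
  obtain ⟨e⟩ := LocCohLib.nonempty_cokerToDTEquiv I (ModuleCat.of A M)
  haveI : Module.Finite A (LocCoh.DT I M ⧸ LinearMap.range (LocCoh.toDT I M)) := inferInstance
  exact Module.Finite.equiv e

end Groth.Agent.FiniteH1
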