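import Groth.Agent.PushCompl.Components
import Groth.Agent.HullCompl.Main
import Mathlib

/-! Finiteness of fractions with denominators off `V(I)` from the completions at the points of `V(I)`. -/

set_option autoImplicit false
set_option linter.style.haveILetI false
set_option backward.isDefEq.respectTransparency false
universe u

open Groth.Agent.ZClosFin
open IsLocalRing (maximalIdeal)

namespace Groth.Agent.FiniteH1

/-- Local generators of a module of fractions from a flat algebra. -/
theorem exists_finset_frac {A : Type u} [CommRing A] [IsDomain A] [IsNoetherianRing A] (S : Type u) [CommRing S]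
    [IsNoetherianRing S] [Algebra A S] [Module.Flat A S] (Q₀ : Ideal A) [Q₀.IsPrime]
    (Z : Set (PrimeSpectrum S)) [IsNoetherian S (G Z S)] (hull : Submodule A (FractionRing A))
    (hdesc : ∀ (I : Ideal A) (b : A), algebraMap A S b ∈ I.map (algebraMap A S) → ∃ s ∉ Q₀, s * b ∈ I)
    (hgenpt : ∀ P : PrimeSpectrum S, P.asIdeal.comap (algebraMap A S) = ⊥ → P ∉ Z)
    (hcl : ∀ (Q : Out Z) (v : hull), ∃ s : A, algebraMap A S s ∉ Q.1.asIdeal ∧
      ∃ a, algebraMap A (FractionRing A) a = algebraMap A (FractionRing A) s * v.1) :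
    ∃ V : Finset (FractionRing A), (∀ w ∈ V, w ∈ hull) ∧
      ∀ v ∈ hull, ∃ s ∉ Q₀, s • v ∈ Submodule.span A (V : Set (FractionRing A)) := by
  classical
  let K := FractionRing A
  choose den hden num hnum using hcl
  let Φ₀ : hull → ∀ Q : Out Z, Loc Z S Q := fun v Q =>
    IsLocalizedModule.mk' (toLoc Z S Q) (algebraMap A S (num Q v))
      (⟨algebraMap A S (den Q v), hden Q v⟩ : Q.1.asIdeal.primeCompl)
  have hspec : ∀ (v : hull) (Q : Out Z) (d a : A), algebraMap A K a = algebraMap A K d * v.1 →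
      algebraMap A S d • Φ₀ v Q = toLoc Z S Q (algebraMap A S a) := by
    intro v Q d a hda
    have e : a * den Q v = d * num Q v := IsFractionRing.injective A K (by
      rw [map_mul, map_mul, hda, hnum]; ring)
    apply smul_cancel Z (hden Q v)
    rw [smul_comm, ← map_smul, smul_eq_mul, ← map_mul, mul_comm (den Q v), e, map_mul, ← smul_eq_mul, map_smul]
    congr 1
    exact (IsLocalizedModule.mk'_cancel' (toLoc Z S Q) (algebraMap A S (num Q v))
      (⟨algebraMap A S (den Q v), hden Q v⟩ : Q.1.asIdeal.primeCompl))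
  have hmem : ∀ v, Φ₀ v ∈ G Z S := fun v y =>
    ⟨algebraMap A S (den y v), hden y v, algebraMap A S (num y v), fun Q _ => hspec v Q _ _ (hnum y v)⟩
  let Φ : hull → G Z S := fun v => ⟨Φ₀ v, hmem v⟩
  obtain ⟨T₀, hT₀sub, hT₀⟩ : ∃ T₀ : Finset (G Z S), ↑T₀ ⊆ Set.range Φ ∧
      Submodule.span S (Set.range Φ) = Submodule.span S (T₀ : Set (G Z S)) :=
    Submodule.fg_span_iff_fg_span_finset_subset _ |>.mp (IsNoetherian.noetherian _)
  choose pre hpre using fun t : T₀ => hT₀sub t.2
  let V : Finset hull := Finset.univ.image pre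
  have hVΦ : Submodule.span S (Set.range Φ) = Submodule.span S (Φ '' (V : Set hull)) := by
    rw [hT₀]
    congr 1
    ext g
    constructor
    · exact fun hg => ⟨pre ⟨g, hg⟩, Finset.mem_image_of_mem _ (Finset.mem_univ _), hpre ⟨g, hg⟩⟩
    · rintro ⟨v, hv, rfl⟩
      obtain ⟨t, -, rfl⟩ := Finset.mem_image.mp hv
      rw [hpre]
      exact t.2
  refine ⟨V.image Subtype.val, fun w hw => ?_, fun v₀ hv₀ => ?_⟩
  · obtain ⟨w, -, rfl⟩ := Finset.mem_image.mp hw
    exact w.2
  let v : hull := ⟨v₀, hv₀⟩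
  -- a common denominator
  have hfrac : ∀ w : hull, ∃ d : A, d ≠ 0 ∧ ∃ a, algebraMap A K a = algebraMap A K d * w.1 := fun w => by
    obtain ⟨a, b, hb, hab⟩ := IsFractionRing.div_surjective (A := A) w.1
    exact ⟨b, nonZeroDivisors.ne_zero hb, a, by rw [← hab, mul_div_cancel₀ _
      ((map_ne_zero_iff _ (IsFractionRing.injective A K)).mpr (nonZeroDivisors.ne_zero hb))]⟩
  choose d hd0 a ha using hfrac
  let D := d v * ∏ w ∈ V, d w
  have hD : ∀ w, w = v ∨ w ∈ V → ∃ b, algebraMap A K b = algebraMap A K D * w.1 := fun w hw => by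
    obtain ⟨c, hc⟩ : d w ∣ D := by
      rcases hw with rfl | hw
      · exact dvd_mul_right _ _
      · exact dvd_mul_of_dvd_right (Finset.dvd_prod_of_mem d hw) _
    exact ⟨c * a w, by rw [map_mul, ha, hc, map_mul]; ring⟩
  choose b hb using hD
  have hD0 : D ≠ 0 := mul_ne_zero (hd0 v) (Finset.prod_ne_zero_iff.mpr fun w _ => hd0 w)
  let I : Ideal A := Ideal.span (Set.range fun w : V => b w.1 (Or.inr w.2))
  have hvI : algebraMap A S (b v (Or.inl rfl)) ∈ I.map (algebraMap A S) := by
    have hvspan : Φ v ∈ Submodule.span S (Φ '' (V : Set hull)) := hVΦ ▸ Submodule.subset_span ⟨v, rfl⟩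
    obtain ⟨c, hc⟩ : ∃ c ∈ I.map (algebraMap A S), ∀ Q : Out Z,
        algebraMap A S D • (Φ v).1 Q = toLoc Z S Q c := by
      generalize Φ v = g at hvspan ⊢
      induction hvspan using Submodule.span_induction with
      | mem g hg =>
        obtain ⟨w, hw, rfl⟩ := hg
        exact ⟨algebraMap A S (b w (Or.inr hw)), Ideal.mem_map_of_mem _ (Ideal.subset_span ⟨⟨w, hw⟩, rfl⟩),
          fun Q => hspec w Q _ _ (hb _ _)⟩
      | zero => exact ⟨0, zero_mem _, fun Q => by simp⟩
      | add g g' _ _ hg hg' =>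
        obtain ⟨c, hc, hg⟩ := hg
        obtain ⟨c', hc', hg'⟩ := hg'
        exact ⟨c + c', add_mem hc hc', fun Q => by
          rw [Submodule.coe_add, Pi.add_apply, smul_add, hg, hg', map_add]⟩
      | smul r g _ hg =>
        obtain ⟨c, hc, hg⟩ := hg
        exact ⟨r • c, Submodule.smul_mem _ r hc, fun Q => by
          rw [SetLike.val_smul, Pi.smul_apply, smul_comm, hg, map_smul]⟩
    obtain ⟨hc, hcQ⟩ := hc
    suffices algebraMap A S (b v (Or.inl rfl)) = c by rw [this]; exact hc
    by_contra hne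
    obtain ⟨P, hP, hle⟩ := exists_le_isAssociatedPrime_of_isNoetherianRing S
      (algebraMap A S (b v (Or.inl rfl)) - c) (sub_ne_zero.mpr hne)
    haveI := hP.isPrime
    have hP0 : P.comap (algebraMap A S) = ⊥ := by
      refine (Submodule.eq_bot_iff _).mpr fun t ht => by_contra fun ht0 => ?_
      obtain ⟨-, z, hz⟩ := isAssociatedPrime_iff.mp hP
      have htz : algebraMap A S t • z = 0 := by
        have : algebraMap A S t ∈ P := ht
        rwa [hz, Submodule.mem_colon_singleton, Submodule.mem_bot] at this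
      have hreg : Function.Injective ((t • LinearMap.id : A →ₗ[A] A).lTensor S) :=
        Module.Flat.lTensor_preserves_injective_linearMap _ fun u w h => smul_right_injective A ht0 h
      have h0 : (z ⊗ₜ[A] (1 : A)) = 0 := hreg (by
        rw [LinearMap.lTensor_tmul, LinearMap.smul_apply, LinearMap.id_apply, ← TensorProduct.smul_tmul,
          ← algebraMap_smul S t z, htz, TensorProduct.zero_tmul, map_zero])
      have hz0 : z = 0 := by simpa using congrArg (TensorProduct.rid A S) h0
      exact Ideal.IsPrime.ne_top (I := P) inferInstance ((Ideal.eq_top_iff_one P).mpr (by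
        rw [hz, hz0, Submodule.mem_colon_singleton, smul_zero]; exact zero_mem _))
    let Q : Out Z := ⟨⟨P, inferInstance⟩, hgenpt ⟨P, inferInstance⟩ hP0⟩
    have h1 : toLoc Z S Q (algebraMap A S (b v (Or.inl rfl)) - c) = 0 := by
      rw [map_sub, ← hspec v Q D _ (hb v _), ← hcQ Q]
      exact sub_self _
    obtain ⟨t, ht⟩ := (IsLocalizedModule.eq_zero_iff Q.1.asIdeal.primeCompl (toLoc Z S Q)).mp h1
    exact t.2 (hle (Submodule.mem_colon_singleton.mpr ((Submodule.mem_bot S).mpr ht)))
  obtain ⟨s, hs, hsI⟩ := hdesc I _ hvI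
  obtain ⟨c, hc⟩ := (Submodule.mem_span_range_iff_exists_fun A).mp hsI
  refine ⟨s, hs, ?_⟩
  suffices s • v₀ = ∑ w : V, c w • (w.1 : K) by
    rw [this]
    exact Submodule.sum_mem _ fun w _ => Submodule.smul_mem _ _
      (Submodule.subset_span (Finset.mem_image_of_mem _ w.2))
  apply mul_left_cancel₀ ((map_ne_zero_iff _ (IsFractionRing.injective A K)).mpr hD0)
  rw [Algebra.smul_def, mul_left_comm, ← hb v (Or.inl rfl), ← map_mul, ← hc, map_sum, Finset.mul_sum]
  refine Finset.sum_congr rfl fun w _ => ?_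
  rw [smul_eq_mul, map_mul, hb, Algebra.smul_def]
  ring

theorem associatedPrimes_quotient_pow {A : Type u} [CommRing A] [IsDomain A] (b : A) (hb : b ≠ 0)
    (H : Submodule A (FractionRing A)) : ∀ n : ℕ,
    associatedPrimes A (H ⧸ LinearMap.range (b ^ n • LinearMap.id : H →ₗ[A] H)) ⊆
      associatedPrimes A (H ⧸ LinearMap.range (b • LinearMap.id : H →ₗ[A] H))
  | 0 => fun p hp => by
    haveI : Subsingleton (H ⧸ LinearMap.range (b ^ 0 • LinearMap.id : H →ₗ[A] H)) :=
      Submodule.Quotient.subsingleton_iff.mpr (eq_top_iff.mpr fun z _ => ⟨z, by simp⟩)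
    rw [associatedPrimes.eq_empty_of_subsingleton] at hp
    exact absurd hp (Set.notMem_empty p)
  | n + 1 => by
    let R : ℕ → Submodule A H := fun k => LinearMap.range (b ^ k • LinearMap.id : H →ₗ[A] H)
    let f : (H ⧸ LinearMap.range (b • LinearMap.id : H →ₗ[A] H)) →ₗ[A] H ⧸ R (n + 1) :=
      Submodule.mapQ _ _ (b ^ n • LinearMap.id) (by
        rintro _ ⟨w, rfl⟩
        exact ⟨w, by simp [← mul_smul, pow_succ']⟩)
    let g : (H ⧸ R (n + 1)) →ₗ[A] H ⧸ R n := Submodule.mapQ _ _ LinearMap.id (by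
        rintro _ ⟨w, rfl⟩
        exact ⟨b • w, by simp [← mul_smul, pow_succ']⟩)
    have hf : Function.Injective f := by
      refine (injective_iff_map_eq_zero f).mpr fun z hz => ?_
      obtain ⟨z, rfl⟩ := Submodule.Quotient.mk_surjective _ z
      obtain ⟨w, hw⟩ := (Submodule.Quotient.mk_eq_zero _).mp hz
      refine (Submodule.Quotient.mk_eq_zero _).mpr ⟨w, smul_right_injective H (pow_ne_zero n hb) ?_⟩
      simpa [pow_succ, mul_smul] using hw
    have hex : Function.Exact f g := by
      intro z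
      obtain ⟨z, rfl⟩ := Submodule.Quotient.mk_surjective _ z
      constructor
      · intro hz
        obtain ⟨w, hw⟩ := (Submodule.Quotient.mk_eq_zero _).mp hz
        exact ⟨Submodule.Quotient.mk w, congrArg Submodule.Quotient.mk hw⟩
      · rintro ⟨w, hw⟩
        obtain ⟨w, rfl⟩ := Submodule.Quotient.mk_surjective _ w
        rw [← hw]
        exact (Submodule.Quotient.mk_eq_zero _).mpr ⟨w, rfl⟩
    exact (associatedPrimes.subset_union_of_exact hf hex).trans
      (Set.union_subset subset_rfl (associatedPrimes_quotient_pow b hb H n))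

section

variable {A : Type u} [CommRing A] [IsDomain A] [IsNoetherianRing A] (I : Ideal A)

local notation "N" => PushCompl.Den A A (PushCompl.V A I)

theorem exists_finset_at (hI : I ≠ ⊥) (q : Ideal A) [q.IsPrime]
    (h : ∀ P ∈ associatedPrimes (EGA4.Cpl (Localization.AtPrime q)) (EGA4.Cpl (Localization.AtPrime q)),
      (2 : WithBot ℕ∞) ≤ ringKrullDim (EGA4.Cpl (Localization.AtPrime q) ⧸ P))
    (ih : ∀ P : Ideal A, P.IsPrime → P < q → I ≤ P → HullCompl.Good A P) :
    ∃ V : Finset (FractionRing A), (∀ w ∈ V, w ∈ N) ∧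
      ∀ v ∈ N, ∃ s ∉ q, s • v ∈ Submodule.span A (V : Set (FractionRing A)) := by
  haveI := HullCompl.flat_cpl q
  let S := EGA4.Cpl (Localization.AtPrime q)
  haveI : IsNoetherianRing S := CohenStruct.isNoetherianRing_completion _
  haveI : IsNoetherian S (G (PushCompl.V S (I.map (algebraMap A S))) S) :=
    isNoetherian_G _ (fun a b (ha : a ∈ PushCompl.V S (I.map (algebraMap A S))) hab z hz => hab (ha hz))
      fun p hp hpZ => ⟨HullCompl.hullFinite_quotient_completion _ p.asIdeal, fun y hy hpy h1 => by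
        have hIy : I ≤ y.asIdeal.comap (algebraMap A S) := Ideal.map_le_iff_le_comap.mp hy
        rcases (HullCompl.comap_le q y.asIdeal y.isPrime).eq_or_lt with heq | hlt
        · have e := HullCompl.eq_maximalIdeal q y.asIdeal y.isPrime heq
          have h2 := h _ hp
          rw [← HullCompl.height_map_maximalIdeal S p.asIdeal, ← e, h1] at h2
          norm_num at h2
        · have h2 := HullCompl.two_le_height S p.asIdeal hp y.asIdeal hpy (ih _ (Ideal.IsPrime.comap _) hlt hIy)
            (fun e => hI (le_bot_iff.mp (e ▸ hIy)))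
          rw [h1] at h2
          norm_num at h2⟩
  refine exists_finset_frac S q (PushCompl.V S (I.map (algebraMap A S))) N (HullCompl.descend q)
    (fun P hP hmem => hI (le_bot_iff.mp (hP ▸ Ideal.map_le_iff_le_comap.mp hmem))) fun Q v => ?_
  obtain ⟨s, hs, a, ha⟩ := v.2 ⟨PrimeSpectrum.comap (algebraMap A S) Q.1,
    fun hy => Q.2 (Ideal.map_le_iff_le_comap.mpr hy)⟩ (PushCompl.ker_id_le _)
  exact ⟨s, hs, a, ha.trans (Algebra.smul_def _ _)⟩

/-- Local generators make a point of `V(I)` good. -/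
theorem good_of_finset_frac (q : Ideal A) [q.IsPrime] (hIq : I ≤ q) (V : Finset (FractionRing A))
    (hV : ∀ w ∈ V, w ∈ N) (hgen : ∀ v ∈ N, ∃ s ∉ q, s • v ∈ Submodule.span A (V : Set (FractionRing A))) :
    HullCompl.Good A q := by
  classical
  let K := FractionRing A
  let H : Submodule A K := Submodule.span A ((insert 1 V : Finset K) : Set K)
  refine ⟨H, Submodule.fg_span (Finset.finite_toSet _), Submodule.subset_span (Finset.mem_insert_self _ _),
    fun x hx hp => ?_⟩
  have hH : H ≤ N := Submodule.span_le.mpr fun w hw => by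
    rcases Finset.mem_insert.mp (Finset.mem_coe.mp hw) with rfl | hw
    · exact PushCompl.one_mem_den I
    · exact hV w hw
  obtain ⟨-, c, hc⟩ := isAssociatedPrime_iff.mp hp
  obtain ⟨z, rfl⟩ := Submodule.Quotient.mk_surjective _ c
  have hxK : algebraMap A K x ≠ 0 := (map_ne_zero_iff _ (IsFractionRing.injective A K)).mpr hx
  have hv : (z : K) / algebraMap A K x ∈ N := by
    intro P _
    obtain ⟨s, hsp, hsP⟩ := Set.not_subset.mp (fun hle : q ≤ P.1.asIdeal => P.2 (hIq.trans hle))
    rw [hc, SetLike.mem_coe, Submodule.mem_colon_singleton, Submodule.mem_bot, ← Submodule.Quotient.mk_smul,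
      Submodule.Quotient.mk_eq_zero] at hsp
    obtain ⟨w, hw⟩ := hsp
    obtain ⟨t, htP, a, ha⟩ := hH w.2 P (PushCompl.ker_id_le _)
    refine ⟨t * s, fun h => (P.1.isPrime.mem_or_mem h).elim htP hsP, a, ?_⟩
    have hw' : algebraMap A K x * (w : K) = algebraMap A K s * z := by
      have := congrArg Subtype.val hw
      simpa [Algebra.smul_def] using this
    rw [ha, Algebra.smul_def, Algebra.smul_def, map_mul, mul_assoc, mul_div_assoc', ← hw',
      mul_div_cancel_left₀ _ hxK]
  obtain ⟨s, hs, hsv⟩ := hgen _ hv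
  refine hs ?_
  rw [hc, Submodule.mem_colon_singleton, Submodule.mem_bot, ← Submodule.Quotient.mk_smul,
    Submodule.Quotient.mk_eq_zero]
  refine ⟨⟨_, Submodule.span_mono (by simp) hsv⟩, Subtype.ext ?_⟩
  simp only [LinearMap.smul_apply, LinearMap.id_apply, SetLike.val_smul]
  rw [Algebra.smul_def x, Algebra.smul_def s, Algebra.smul_def s]
  rw [mul_left_comm, mul_div_cancel₀ _ hxK]

omit [IsNoetherianRing A] in
theorem exists_pow_smul_eq {b : A} (hbI : b ∈ I) {v : FractionRing A} (hv : v ∈ N) :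
    ∃ n : ℕ, ∃ a : A, algebraMap A (FractionRing A) a = b ^ n • v := by
  let K := FractionRing A
  let J : Ideal A := (LinearMap.range (Algebra.linearMap A K)).colon {v}
  have hJ : b ∈ J.radical := by
    rw [← PrimeSpectrum.vanishingIdeal_zeroLocus_eq_radical, PrimeSpectrum.mem_vanishingIdeal]
    intro p hp
    by_contra hbp
    obtain ⟨s, hs, a, ha⟩ := hv ⟨p, fun h' => hbp (h' hbI)⟩ (PushCompl.ker_id_le _)
    exact hs (hp (Submodule.mem_colon_singleton.mpr ⟨a, ha⟩))
  obtain ⟨n, hn⟩ := hJ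
  obtain ⟨a, ha⟩ := Submodule.mem_colon_singleton.mp hn
  exact ⟨n, a, ha⟩

open Classical in
/-- Generators which suffice at a point suffice on a neighbourhood. -/
theorem exists_nhd (hI : I ≠ ⊥) (q : PrimeSpectrum A) (Vq : Finset (FractionRing A)) (h1V : (1 : FractionRing A) ∈ Vq)
    (hgen : ∀ v ∈ N, ∃ s ∉ q.asIdeal, s • v ∈ Submodule.span A (Vq : Set (FractionRing A))) :
    ∃ f ∉ q.asIdeal, ∀ v ∈ N, ∃ k : ℕ,
      f ^ k • v ∈ Submodule.span A (Vq : Set (FractionRing A)) := by
  let K := FractionRing A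
  obtain ⟨b, hbI, hb0⟩ := Submodule.exists_mem_ne_zero_of_ne_bot hI
  have hden := fun (v : K) (hv : v ∈ N) => exists_pow_smul_eq I hbI hv
  let H : Submodule A K := Submodule.span A (Vq : Set K)
  haveI : Module.Finite A H := Module.Finite.iff_fg.mpr (Submodule.fg_span (Finset.finite_toSet _))
  let Q := H ⧸ LinearMap.range (b • LinearMap.id : H →ₗ[A] H)
  have hfin : (associatedPrimes A Q).Finite := associatedPrimes.finite A Q
  let F : Finset (Ideal A) := hfin.toFinset.filter fun r => ¬ r ≤ q.asIdeal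
  choose! g hgr hgq using fun r (hr : r ∈ F) => Set.not_subset.mp (Finset.mem_filter.mp hr).2
  refine ⟨∏ r ∈ F, g r, fun h => ?_, fun v hv => ?_⟩
  · obtain ⟨r, hr, hrq⟩ := q.isPrime.prod_mem_iff.mp h
    exact hgq r hr hrq
  let J : Ideal A := H.colon {v}
  suffices (∏ r ∈ F, g r) ∈ J.radical by
    obtain ⟨k, hk⟩ := this
    exact ⟨k, Submodule.mem_colon_singleton.mp hk⟩
  rw [Ideal.radical_eq_sInf, Ideal.mem_sInf]
  rintro P ⟨hJP, hP⟩
  obtain ⟨r, hrmin, hrP⟩ := Ideal.exists_minimalPrimes_le hJP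
  refine hrP ?_
  haveI := hrmin.isPrime
  -- `r` is associated to `(N + H)/H`
  have hrass : r ∈ associatedPrimes A (↥(Submodule.span A {(Submodule.Quotient.mk v : K ⧸ H)})) := by
    refine Module.associatedPrimes.minimalPrimes_annihilator_subset_associatedPrimes A _ ?_
    convert hrmin using 2
    ext a
    rw [Submodule.mem_annihilator_span_singleton, Submodule.mem_colon_singleton, ← Submodule.Quotient.mk_smul,
      Submodule.Quotient.mk_eq_zero]
  obtain ⟨-, w, hw⟩ := isAssociatedPrime_iff.mp hrass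
  obtain ⟨c, hc⟩ := Submodule.mem_span_singleton.mp w.2
  have hr : ∀ a, a ∈ r ↔ a • (c • v) ∈ H := fun a => by
    rw [hw, Submodule.mem_colon_singleton, Submodule.mem_bot, ← Subtype.coe_inj, SetLike.val_smul, ← hc,
      ZeroMemClass.coe_zero, ← Submodule.Quotient.mk_smul, ← Submodule.Quotient.mk_smul,
      Submodule.Quotient.mk_eq_zero]
  have hcN : c • v ∈ N := Submodule.smul_mem _ c hv
  obtain ⟨s, hs, hsv⟩ := hgen _ hcN
  have hrq : ¬ r ≤ q.asIdeal := fun hle =>
    hs (hle ((hr s).mpr hsv))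
  have hbH : ∀ n : ℕ, (∃ a : A, algebraMap A K a = b ^ n • (c • v)) → b ^ n • (c • v) ∈ H := fun n ⟨a, ha⟩ => by
    rw [← ha]
    have h1 : (1 : K) ∈ H := Submodule.subset_span h1V
    simpa [Algebra.smul_def] using Submodule.smul_mem H a h1
  obtain ⟨n, hn⟩ := hden _ hcN
  have hex : ∃ n : ℕ, b ^ n • (c • v) ∈ H := ⟨n, hbH n hn⟩
  have hmem : r ∈ associatedPrimes A Q := by
    refine associatedPrimes_quotient_pow b hb0 H n (isAssociatedPrime_iff.mpr
      ⟨inferInstance, Submodule.Quotient.mk ⟨_, hbH n hn⟩, ?_⟩)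
    ext a
    rw [hr, Submodule.mem_colon_singleton, Submodule.mem_bot, ← Submodule.Quotient.mk_smul,
      Submodule.Quotient.mk_eq_zero]
    constructor
    · intro ha
      refine ⟨⟨_, ha⟩, Subtype.ext ?_⟩
      simp only [LinearMap.smul_apply, LinearMap.id_apply, SetLike.val_smul]
      rw [smul_comm]
    · rintro ⟨z, hz⟩
      have hz' : b ^ n • (z : K) = b ^ n • (a • (c • v)) := by
        have := congrArg Subtype.val hz
        simp only [LinearMap.smul_apply, LinearMap.id_apply, SetLike.val_smul] at this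
        rw [this, smul_comm]
      rw [← smul_right_injective K (pow_ne_zero n hb0) hz']
      exact z.2
  exact Ideal.mem_of_dvd _ (Finset.dvd_prod_of_mem g (Finset.mem_filter.mpr ⟨hfin.mem_toFinset.mpr hmem, hrq⟩))
    (hgr r (Finset.mem_filter.mpr ⟨hfin.mem_toFinset.mpr hmem, hrq⟩))

omit [IsDomain A] in
theorem good_below {Pred : PrimeSpectrum A → Prop} {q : PrimeSpectrum A} {n : ℕ} (hn : q.asIdeal.height = n)
    (ih : ∀ m < n, ∀ P : PrimeSpectrum A, P.asIdeal.height = m → Pred P) (P : Ideal A) (hP : P.IsPrime)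
    (hlt : P < q.asIdeal) : Pred ⟨P, hP⟩ := by
  haveI := hP
  haveI := q.isPrime
  obtain ⟨m, hm⟩ := Catenary.exists_height_eq (⟨P, hP⟩ : PrimeSpectrum A)
  refine ih m ?_ ⟨P, hP⟩ hm
  have := Ideal.height_add_one_le_of_lt_of_isPrime hlt
  rw [show P.height = m from hm, hn] at this
  norm_cast at this

theorem good_of_criterion (hI : I ≠ ⊥)
    (h : ∀ (q : Ideal A) [q.IsPrime], I ≤ q → ∀ P ∈ associatedPrimes (EGA4.Cpl (Localization.AtPrime q))
      (EGA4.Cpl (Localization.AtPrime q)), (2 : WithBot ℕ∞) ≤ ringKrullDim (EGA4.Cpl (Localization.AtPrime q) ⧸ P)) :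
    ∀ (q : PrimeSpectrum A), I ≤ q.asIdeal → HullCompl.Good A q.asIdeal := by
  intro q
  obtain ⟨n, hn⟩ : ∃ n : ℕ, q.asIdeal.height = n := Catenary.exists_height_eq q
  induction n using Nat.strong_induction_on generalizing q with
  | _ n ih =>
    intro hIq
    obtain ⟨V, hV, hgen⟩ := exists_finset_at I hI q.asIdeal (h q.asIdeal hIq) fun P hP hlt hIP =>
      good_below (Pred := fun P => I ≤ P.asIdeal → HullCompl.Good A P.asIdeal) hn ih P hP hlt hIP
    exact good_of_finset_frac I q.asIdeal hIq V hV hgen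

/-- The criterion on completions at the points of `V(I)` gives finiteness. -/
theorem finite_den (hI : I ≠ ⊥)
    (h : ∀ (q : Ideal A) [q.IsPrime], I ≤ q → ∀ P ∈ associatedPrimes (EGA4.Cpl (Localization.AtPrime q))
      (EGA4.Cpl (Localization.AtPrime q)), (2 : WithBot ℕ∞) ≤ ringKrullDim (EGA4.Cpl (Localization.AtPrime q) ⧸ P)) :
    Module.Finite A N := by
  classical
  let K := FractionRing A
  have hgood := good_of_criterion I hI h
  have hloc : ∀ q : PrimeSpectrum A, ∃ V : Finset K, (∀ w ∈ V, w ∈ N) ∧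
      ∀ v ∈ N, ∃ s ∉ q.asIdeal, s • v ∈ Submodule.span A (V : Set K) := fun q => by
    by_cases hIq : I ≤ q.asIdeal
    · exact exists_finset_at I hI q.asIdeal (h q.asIdeal hIq) fun P hP _ hIP => hgood ⟨P, hP⟩ hIP
    · refine ⟨{1}, fun w hw => by rw [Finset.mem_singleton.mp hw]; exact PushCompl.one_mem_den I, fun v hv => ?_⟩
      obtain ⟨s, hs, a, ha⟩ := hv ⟨q, hIq⟩ (PushCompl.ker_id_le _)
      refine ⟨s, hs, ?_⟩
      rw [← ha, Finset.coe_singleton]
      exact Submodule.mem_span_singleton.mpr ⟨a, by rw [Algebra.smul_def, mul_one]⟩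
  have hloc1 : ∀ q : PrimeSpectrum A, ∃ V : Finset K, ((1 : K) ∈ V ∧ ∀ w ∈ V, w ∈ N) ∧
      ∀ v ∈ N, ∃ s ∉ q.asIdeal, s • v ∈ Submodule.span A (V : Set K) := fun q => by
    obtain ⟨V, hV, hgen⟩ := hloc q
    refine ⟨insert 1 V, ⟨Finset.mem_insert_self _ _, fun w hw => ?_⟩, fun v hv => ?_⟩
    · rcases Finset.mem_insert.mp hw with rfl | hw
      · exact PushCompl.one_mem_den I
      · exact hV w hw
    · obtain ⟨s, hs, hsv⟩ := hgen v hv
      exact ⟨s, hs, Submodule.span_mono (Finset.coe_subset.mpr (Finset.subset_insert _ _)) hsv⟩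
  choose V hV hgen using hloc1
  have hopen : ∀ q : PrimeSpectrum A, ∃ f ∉ q.asIdeal, ∀ v ∈ N, ∃ k : ℕ,
      f ^ k • v ∈ Submodule.span A (V q : Set K) := fun q =>
    exists_nhd I hI q (V q) (hV q).1 (hgen q)
  choose f hfq hf using hopen
  obtain ⟨T, hT, hTtop⟩ : ∃ T : Finset A, ↑T ⊆ Set.range f ∧ Ideal.span (T : Set A) = ⊤ := by
    have htop : Ideal.span (Set.range f) = ⊤ := by_contra fun hne => by
      obtain ⟨m, hm, hle⟩ := Ideal.exists_le_maximal _ hne
      exact hfq ⟨m, hm.isPrime⟩ (hle (Ideal.subset_span ⟨_, rfl⟩))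
    obtain ⟨T, hT, h1⟩ := Submodule.mem_span_finite_of_mem_span ((Ideal.eq_top_iff_one _).mp htop)
    exact ⟨T, hT, (Ideal.eq_top_iff_one _).mpr h1⟩
  choose! pt hpt using fun t (ht : t ∈ T) => hT ht
  let U : Finset K := T.biUnion fun t => V (pt t)
  refine Module.Finite.iff_fg.mpr ⟨U, le_antisymm (Submodule.span_le.mpr fun w hw => ?_) fun v hv => ?_⟩
  · obtain ⟨t, -, hw⟩ := Finset.mem_biUnion.mp (Finset.mem_coe.mp hw)
    exact (hV _).2 w hw
  let W : Submodule A K := Submodule.span A (U : Set K)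
  change v ∈ W
  refine Submodule.mem_of_span_eq_top_of_smul_pow_mem W (T : Set A) hTtop v ?_
  intro t
  obtain ⟨t, ht⟩ := t
  obtain ⟨k, hk⟩ := hf (pt t) v hv
  have e : f (pt t) = t := hpt t ht
  have hsub : ((V (pt t) : Finset K) : Set K) ⊆ (U : Set K) := fun w hw =>
    Finset.mem_coe.mpr (Finset.mem_biUnion.mpr ⟨t, ht, Finset.mem_coe.mp hw⟩)
  refine ⟨k, ?_⟩
  have := Submodule.span_mono (R := A) hsub hk
  rw [e] at this
  exact this

end

end Groth.Agent.FiniteH1
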