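import Groth.Agent.FiniteH1.Bridge
import Groth.Agent.FiniteH1.Global
import Groth.Agent.FlatAscent.IadicFibre
import Groth.Agent.DepthLib.Sk
import Groth.Agent.FlatSerre.Basic
import Groth.Agent.S2069
import Groth.Agent.S9126
import Mathlib

/-! Criteria for the finiteness of `H^1_I(M)` at the associated primes of `M`. -/

set_option autoImplicit false
set_option linter.style.haveILetI false
set_option backward.isDefEq.respectTransparency false
universe u

open Groth.Agent.ZClosFin
open IsLocalRing (maximalIdeal)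

namespace Groth.Agent.FiniteH1

variable {A : Type u} [CommRing A] [IsNoetherianRing A]

/-- Finiteness from the components. -/
theorem finite_H1_of_components (I : Ideal A) (M : Type u) [AddCommGroup M] [Module A M] [Module.Finite A M]
    (h : ∀ p : Ideal A, p ∈ associatedPrimes A M → ¬ I ≤ p → ∀ [p.IsPrime] (Q : Ideal (A ⧸ p)) [Q.IsPrime],
      I.map (Ideal.Quotient.mk p) ≤ Q →
        ∀ P ∈ associatedPrimes (EGA4.Cpl (Localization.AtPrime Q)) (EGA4.Cpl (Localization.AtPrime Q)),
          (2 : WithBot ℕ∞) ≤ ringKrullDim (EGA4.Cpl (Localization.AtPrime Q) ⧸ P)) :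
    Module.Finite A (LocCoh.H I 1 M) := by
  haveI := PushCompl.isNoetherian_G_of_components (PushCompl.V A I) (M := M)
    (fun a b (ha : a ∈ PushCompl.V A I) hab z hz => hab (ha hz)) fun x hx hxI => by
      have hJ : ¬ I ≤ x.asIdeal := hxI
      have hI : I.map (Ideal.Quotient.mk x.asIdeal) ≠ ⊥ := fun e => hJ (by
        rw [Ideal.map_eq_bot_iff_le_ker, Ideal.mk_ker] at e
        exact e)
      obtain ⟨e⟩ := PushCompl.exists_equiv (A ⧸ x.asIdeal) (A ⧸ x.asIdeal)
        (PushCompl.V (A ⧸ x.asIdeal) (I.map (Ideal.Quotient.mk x.asIdeal))) (fun q hq hmem => hI (le_bot_iff.mp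
          ((show I.map (Ideal.Quotient.mk x.asIdeal) ≤ q.asIdeal from hmem).trans fun z hz => by
            rw [hq] at hz
            exact hz)))
      haveI := finite_den _ hI fun Q _ hQ => h _ hx hJ Q hQ
      haveI := (PushCompl.finite_quotient_iff A x.asIdeal I hJ).mpr (Module.Finite.equiv e.symm)
      exact isNoetherian_of_isNoetherianRing_of_finite A _
  exact finite_H1 I M

/-- Lengths of chains between two primes are bounded by heights in the quotient. -/
theorem height_le_height_map (p q : PrimeSpectrum A) (hpq : p ≤ q) :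
    Order.height (⟨q, hpq⟩ : Set.Ici p) ≤ (q.asIdeal.map (Ideal.Quotient.mk p.asIdeal)).height := by
  have hprime : ∀ y : Set.Ici p, (y.1.asIdeal.map (Ideal.Quotient.mk p.asIdeal)).IsPrime := fun y =>
    haveI := y.1.isPrime
    Ideal.map_isPrime_of_surjective Ideal.Quotient.mk_surjective (by rw [Ideal.mk_ker]; exact y.2)
  let f : Set.Ici p → PrimeSpectrum (A ⧸ p.asIdeal) := fun y => ⟨_, hprime y⟩
  have hc : ∀ y : Set.Ici p, (f y).asIdeal.comap (Ideal.Quotient.mk p.asIdeal) = y.1.asIdeal := fun y => by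
    change (y.1.asIdeal.map (Ideal.Quotient.mk p.asIdeal)).comap _ = _
    rw [Ideal.comap_map_of_surjective _ Ideal.Quotient.mk_surjective, ← RingHom.ker_eq_comap_bot, Ideal.mk_ker]
    exact sup_eq_left.mpr y.2
  have hf : StrictMono f := fun y z hyz => lt_of_le_of_ne (Ideal.map_mono hyz.le) fun e =>
    hyz.ne (Subtype.ext (PrimeSpectrum.ext (by rw [← hc y, e, hc z])))
  have := Order.height_le_height_apply_of_strictMono f hf ⟨q, hpq⟩
  rwa [← PrimeSpectrum.height_eq_orderHeight] at this

/-- The completion of a local ring along an isomorphism. -/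
theorem forall_dim_of_ringEquiv {T T' : Type u} [CommRing T] [CommRing T'] (J : Ideal T) (J' : Ideal T')
    [IsNoetherianRing (AdicCompletion J T)]
    (e : T ≃+* T') (hJ : J.map (e : T →+* T') = J')
    (h : ∀ P ∈ associatedPrimes (AdicCompletion J T) (AdicCompletion J T),
      (2 : WithBot ℕ∞) ≤ ringKrullDim (AdicCompletion J T ⧸ P)) :
    ∀ P ∈ associatedPrimes (AdicCompletion J' T') (AdicCompletion J' T'),
      (2 : WithBot ℕ∞) ≤ ringKrullDim (AdicCompletion J' T' ⧸ P) := by
  obtain ⟨E, -⟩ := FlatAscent.Iadic.exists_completion_equiv J J' e.toRingHom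
    (fun k => Ideal.quotientEquiv (J ^ k) (J' ^ k) e (by rw [← hJ, ← Ideal.map_pow]))
    (fun k c => rfl)
  haveI : IsNoetherianRing (AdicCompletion J' T') := isNoetherianRing_of_ringEquiv _ E
  intro P hP
  obtain ⟨hPp, x, hx⟩ := isAssociatedPrime_iff.mp hP
  haveI := hPp
  refine (h (P.comap E.toRingHom) (isAssociatedPrime_iff.mpr ⟨inferInstance, E.symm x, ?_⟩)).trans (le_of_eq ?_)
  · ext z
    rw [Ideal.mem_comap, hx, Submodule.mem_colon_singleton, Submodule.mem_bot, Submodule.mem_colon_singleton,
      Submodule.mem_bot, smul_eq_mul, smul_eq_mul, ← map_eq_zero_iff (f := E) E.injective, map_mul,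
      RingEquiv.apply_symm_apply]
    rfl
  · exact ringKrullDim_eq_of_ringEquiv (Ideal.quotientEquiv _ _ E
      (Ideal.map_comap_of_surjective E.toRingHom E.surjective P).symm)

/-- The localisation of a quotient is the quotient of the localisation. -/
theorem exists_localization_quotient_equiv (p : Ideal A) (Q : Ideal (A ⧸ p)) [Q.IsPrime] :
    ∃ e : (Localization.AtPrime (Q.comap (Ideal.Quotient.mk p)) ⧸
        p.map (algebraMap A (Localization.AtPrime (Q.comap (Ideal.Quotient.mk p))))) ≃+* Localization.AtPrime Q,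
      (((maximalIdeal (Localization.AtPrime (Q.comap (Ideal.Quotient.mk p)))).map (Ideal.Quotient.mk _)).map
        e.toRingHom) = maximalIdeal (Localization.AtPrime Q) := by
  let q := Q.comap (Ideal.Quotient.mk p)
  let L := Localization.AtPrime q
  let T := L ⧸ p.map (algebraMap A L)
  have hM : Algebra.algebraMapSubmonoid (A ⧸ p) q.primeCompl = Q.primeCompl := by
    ext z
    constructor
    · rintro ⟨a, ha, rfl⟩
      exact ha
    · intro hz
      obtain ⟨a, rfl⟩ := Ideal.Quotient.mk_surjective z
      exact ⟨a, hz, rfl⟩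
  haveI : IsLocalization Q.primeCompl T := hM ▸ (inferInstance : IsLocalization (Algebra.algebraMapSubmonoid (A ⧸ p) q.primeCompl) T)
  let e : T ≃+* Localization.AtPrime Q := (IsLocalization.algEquiv Q.primeCompl T (Localization.AtPrime Q)).toRingEquiv
  refine ⟨e, ?_⟩
  rw [Ideal.map_map]
  exact IsLocalRing.map_maximalIdeal_of_surjective _ (e.surjective.comp Ideal.Quotient.mk_surjective)

/-- Associated primes of the completion of the localised quotient are minimal when the formal fibres are `(S₁)`. -/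
theorem mem_minimalPrimes_completion_quotient {L : Type u} [CommRing L] [IsLocalRing L] [IsNoetherianRing L]
    (hL : EGA4.HasSnFormalFibres 1 L) (p : Ideal L) [p.IsPrime] [IsLocalRing (L ⧸ p)]
    (P : Ideal (EGA4.Cpl (L ⧸ p))) (hP : P ∈ associatedPrimes (EGA4.Cpl (L ⧸ p)) (EGA4.Cpl (L ⧸ p))) :
    P ∈ minimalPrimes (EGA4.Cpl (L ⧸ p)) := by
  haveI := CohenStruct.isNoetherianRing_completion L
  haveI := CohenStruct.isNoetherianRing_completion (L ⧸ p)
  haveI : Module.Flat L (EGA4.Cpl L) := AdicCompletion.flat_of_isNoetherian _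
  obtain ⟨hPp, x, hx⟩ := isAssociatedPrime_iff.mp hP
  haveI := hPp
  obtain ⟨Φ⟩ := Catenary.exists_completion_quotient_equiv p
  let S := EGA4.Cpl L
  let f : S →+* EGA4.Cpl (L ⧸ p) := Φ.symm.toRingHom.comp (Ideal.Quotient.mk (p.map (algebraMap L S)))
  have hf : Function.Surjective f := Φ.symm.surjective.comp Ideal.Quotient.mk_surjective
  have hf0 : ∀ z, f z = 0 ↔ z ∈ p.map (algebraMap L S) := fun z => by
    change Φ.symm (Ideal.Quotient.mk _ z) = 0 ↔ _
    rw [map_eq_zero_iff _ Φ.symm.injective, Ideal.Quotient.eq_zero_iff_mem]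
  obtain ⟨e, rfl⟩ := hf x
  let Q := P.comap f
  have hcolon : ∀ z, z ∈ Q ↔ z * e ∈ p.map (algebraMap L S) := fun z => by
    rw [Ideal.mem_comap, hx, Submodule.mem_colon_singleton, Submodule.mem_bot, smul_eq_mul, ← map_mul, hf0]
  have hpQ : p.map (algebraMap L S) ≤ Q := fun z hz => (hcolon z).mpr (Ideal.mul_mem_right e _ hz)
  have hQc : Q.comap (algebraMap L S) = p := by
    have hQ : Q ∈ associatedPrimes S (TensorProduct L S (L ⧸ p)) := by
      rw [← LinearEquiv.AssociatedPrimes.eq (S2069.quotEquiv (R := L) (S := S) (N := S) p)]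
      refine isAssociatedPrime_iff.mpr ⟨inferInstance, Submodule.Quotient.mk e, ?_⟩
      ext z
      rw [hcolon, Submodule.mem_colon_singleton, Submodule.mem_bot, ← Submodule.Quotient.mk_smul,
        Submodule.Quotient.mk_eq_zero, smul_eq_mul (α := Ideal S), Ideal.mul_top, smul_eq_mul]
    obtain ⟨p', hp', hc, -⟩ := HullCompl.comap_mem_ass S Q hQ
    rw [associatedPrimes.eq_singleton_of_isPrimary (Ideal.IsPrime.isPrimary ‹_›), Set.mem_singleton_iff] at hp'
    rw [hc, hp', Ideal.IsPrime.radical ‹_›]
  -- the local ring of the fibre at `Q`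
  let K : Ideal (Localization.AtPrime Q) := (Q.comap (algebraMap L S)).map (algebraMap L (Localization.AtPrime Q))
  have hK : K = (p.map (algebraMap L S)).map (algebraMap S (Localization.AtPrime Q)) := by
    rw [Ideal.map_map, ← IsScalarTower.algebraMap_eq]
    change Ideal.map _ (Q.comap (algebraMap L S)) = _
    rw [hQc]
  have hKle : K ≤ maximalIdeal (Localization.AtPrime Q) := by
    rw [hK, ← Localization.AtPrime.map_eq_maximalIdeal]
    exact Ideal.map_mono hpQ
  let T := EGA4.FibLocRing L S Q
  haveI : Nontrivial T := Ideal.Quotient.nontrivial_iff.mpr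
    (ne_top_of_le_ne_top (IsLocalRing.maximalIdeal.isMaximal _).ne_top hKle)
  haveI : IsLocalRing T := IsLocalRing.of_surjective' (Ideal.Quotient.mk K) Ideal.Quotient.mk_surjective
  have hSk := FlatSerre.skLoc_fibre (A := L) (k := 1) Q (hL _) T (RingEquiv.refl T)
  have hmaxT : maximalIdeal T = (maximalIdeal (Localization.AtPrime Q)).map (Ideal.Quotient.mk K) :=
    (IsLocalRing.map_maximalIdeal_of_surjective _ Ideal.Quotient.mk_surjective).symm
  -- depth zero
  have hmemK : ∀ z : S, algebraMap S (Localization.AtPrime Q) z ∈ K → ∃ s ∉ Q, s * z ∈ p.map (algebraMap L S) :=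
    fun z hz => by
      rw [hK, IsLocalization.algebraMap_mem_map_algebraMap_iff Q.primeCompl] at hz
      exact hz
  have hass : maximalIdeal T ∈ associatedPrimes T T := by
    refine isAssociatedPrime_iff.mpr ⟨inferInstance, Ideal.Quotient.mk K (algebraMap S _ e), le_antisymm ?_ ?_⟩
    · rw [hmaxT, ← Localization.AtPrime.map_eq_maximalIdeal, Ideal.map_map, Ideal.map_le_iff_le_comap]
      intro z hz
      rw [Ideal.mem_comap, Submodule.mem_colon_singleton, Submodule.mem_bot, smul_eq_mul, RingHom.comp_apply,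
        ← map_mul, ← map_mul, Ideal.Quotient.eq_zero_iff_mem, hK]
      exact Ideal.mem_map_of_mem _ ((hcolon z).mp hz)
    · refine IsLocalRing.le_maximalIdeal fun htop => ?_
      have h1 := (Ideal.eq_top_iff_one _).mp htop
      rw [Submodule.mem_colon_singleton, Submodule.mem_bot, one_smul, Ideal.Quotient.eq_zero_iff_mem] at h1
      obtain ⟨s, hs, hse⟩ := hmemK e h1
      exact hs ((hcolon s).mpr hse)
  have hdim : ringKrullDim T ≤ 0 := by
    have h1 := hSk
    unfold FlatSerre.SkLoc at h1
    rw [DepthLib.depth_eq_zero_iff.mpr hass] at h1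
    rcases min_le_iff.mp h1 with h2 | h2
    · norm_num at h2
    · exact h2
  refine ⟨⟨inferInstance, bot_le⟩, fun R hR hRP z hz => ?_⟩
  haveI := hR.1
  let R' := R.comap f
  have hpR : p.map (algebraMap L S) ≤ R' := fun w hw => by
    rw [Ideal.mem_comap, (hf0 w).mpr hw]
    exact zero_mem _
  have hR'Q : R' ≤ Q := Ideal.comap_mono hRP
  have hR'prime : (R'.map (algebraMap S (Localization.AtPrime Q))).IsPrime :=
    IsLocalization.isPrime_of_isPrime_disjoint Q.primeCompl _ R' inferInstance
      (Set.disjoint_left.mpr fun a ha h => ha (hR'Q h))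
  haveI := hR'prime
  have hKR : K ≤ R'.map (algebraMap S (Localization.AtPrime Q)) := by
    rw [hK]
    exact Ideal.map_mono hpR
  haveI : ((R'.map (algebraMap S (Localization.AtPrime Q))).map (Ideal.Quotient.mk K)).IsPrime :=
    Ideal.map_isPrime_of_surjective Ideal.Quotient.mk_surjective (by rwa [Ideal.mk_ker])
  haveI : Ring.KrullDimLE 0 T := Ring.krullDimLE_iff.mpr hdim
  have heq := Ideal.IsPrime.isMaximal' (I := (R'.map (algebraMap S (Localization.AtPrime Q))).map (Ideal.Quotient.mk K)) inferInstance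
  obtain ⟨w, rfl⟩ := hf z
  have hwQ : w ∈ Q := hz
  have h1 : Ideal.Quotient.mk K (algebraMap S _ w) ∈ maximalIdeal T := by
    rw [hmaxT, ← Localization.AtPrime.map_eq_maximalIdeal]
    exact Ideal.mem_map_of_mem _ (Ideal.mem_map_of_mem _ hwQ)
  rw [← IsLocalRing.eq_maximalIdeal heq, ← Ideal.mem_comap, Ideal.comap_map_of_surjective _ Ideal.Quotient.mk_surjective,
    ← RingHom.ker_eq_comap_bot, Ideal.mk_ker, sup_eq_left.mpr hKR, ← Ideal.mem_comap] at h1
  exact (IsLocalization.under_map_of_isPrime_disjoint Q.primeCompl (Localization.AtPrime Q) (I := R') inferInstance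
    (Set.disjoint_left.mpr fun a ha h => ha (hR'Q h))).le h1

end Groth.Agent.FiniteH1
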