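import Groth.Agent.LocCohLib.DirectSum
import Groth.Agent.LocCohLib.Artinian
import Mathlib

/-! Annihilators of local cohomology of modules which are projective on basic opens. -/

set_option autoImplicit false
set_option linter.style.haveILetI false
set_option backward.isDefEq.respectTransparency false
universe u

open CategoryTheory

namespace Groth.Agent.FiniteH1

variable {R : Type u} [CommRing R] [IsNoetherianRing R]

/-- A power of `f` factors through a free module when `M` is projective after inverting `f`. -/
theorem exists_pow_factor (M : Type u) [AddCommGroup M] [Module R M] [Module.Finite R M] (f : R)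
    [Module.Projective (Localization.Away f) (LocalizedModule (Submonoid.powers f) M)] :
    ∃ (r : ℕ) (ι : M →ₗ[R] (ULift.{u} (Fin r) →₀ R)) (π : (ULift.{u} (Fin r) →₀ R) →ₗ[R] M) (k : ℕ), π.comp ι = f ^ k • LinearMap.id := by
  obtain ⟨r, π₀, hπ₀⟩ := Module.Finite.exists_fin' R M
  let π : (ULift.{u} (Fin r) →₀ R) →ₗ[R] M := π₀.comp ((Finsupp.linearEquivFunOnFinite R R (ULift.{u} (Fin r))).trans (LinearEquiv.funCongrLeft R R Equiv.ulift.symm)).toLinearMap
  have hπ : Function.Surjective π := hπ₀.comp ((Finsupp.linearEquivFunOnFinite R R (ULift.{u} (Fin r))).trans (LinearEquiv.funCongrLeft R R Equiv.ulift.symm)).surjective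
  let S := Submonoid.powers f
  let πf := LocalizedModule.map S π
  obtain ⟨σ, hσ⟩ := Module.projective_lifting_property πf LinearMap.id (LocalizedModule.map_surjective S π hπ)
  haveI : Module.FinitePresentation R M := Module.finitePresentation_of_finite R M
  let g : M →ₗ[R] LocalizedModule S (ULift.{u} (Fin r) →₀ R) := (σ.restrictScalars R).comp (LocalizedModule.mkLinearMap S M)
  obtain ⟨h, s, hs⟩ := Module.FinitePresentation.exists_lift_of_isLocalizedModule S
    (N' := LocalizedModule S (ULift.{u} (Fin r) →₀ R)) (LocalizedModule.mkLinearMap S (ULift.{u} (Fin r) →₀ R)) (by exact g)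
  have key : (LocalizedModule.mkLinearMap S M).comp (π.comp h) =
      (LocalizedModule.mkLinearMap S M).comp ((s : R) • LinearMap.id) := LinearMap.ext fun m => by
    have h1 : πf (LocalizedModule.mkLinearMap S _ (h m)) = πf ((s : R) • g m) :=
      congrArg πf (LinearMap.congr_fun hs m)
    rw [LinearMap.map_smul_of_tower] at h1
    change LocalizedModule.mkLinearMap S M (π (h m)) = LocalizedModule.mkLinearMap S M ((s : R) • m)
    rw [map_smul]
    refine Eq.trans ?_ (h1.trans (congrArg ((s : R) • ·) (LinearMap.congr_fun hσ _)))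
    simp [πf]
  obtain ⟨t, ht⟩ := Module.Finite.exists_smul_of_comp_eq_of_isLocalizedModule S
    (LocalizedModule.mkLinearMap S M) _ _ key
  obtain ⟨a, ha⟩ := s.2
  obtain ⟨b, hb⟩ := t.2
  refine ⟨r, (t : R) • h, π, b + a, ?_⟩
  rw [LinearMap.comp_smul, pow_add, show f ^ b = (t : R) from hb, show f ^ a = (s : R) from ha, mul_smul]
  exact ht

/-- An annihilator of `H^i_I(R)` kills, up to powers, the local cohomology of a locally projective module. -/
theorem exists_pow_mul_killed (I : Ideal R) (i : ℕ) (M : Type u) [AddCommGroup M] [Module R M] [Module.Finite R M]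
    (f a : R) [Module.Projective (Localization.Away f) (LocalizedModule (Submonoid.powers f) M)]
    (ha : ∀ x : (localCohomology I i).obj (ModuleCat.of R R), a • x = 0) :
    ∃ k : ℕ, ∀ z : (localCohomology I i).obj (ModuleCat.of R M), (f ^ k * a) • z = 0 := by
  obtain ⟨r, ι, π, k, h⟩ := exists_pow_factor M f
  refine ⟨k, fun z => ?_⟩
  have hfree : ∀ w : (localCohomology I i).obj (ModuleCat.of R (ULift.{u} (Fin r) →₀ R)), a • w = 0 := fun w => by
    obtain ⟨s, hs⟩ := LocCohLib.exists_eq_sum I i (ULift.{u} (Fin r)) w
    rw [hs, Finset.smul_sum]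
    refine Finset.sum_eq_zero fun j _ => ?_
    rw [← map_smul, ha, map_zero]
  have h1 : (localCohomology I i).map (ModuleCat.ofHom π)
      ((localCohomology I i).map (ModuleCat.ofHom ι) z) = f ^ k • z := by
    rw [← ConcreteCategory.comp_apply, ← Functor.map_comp]
    refine (congrArg (fun g => (localCohomology I i).map g z) ?_).trans (LocCohLib.ker_lsmul_map (f ^ k) z)
    exact ModuleCat.hom_ext h
  rw [mul_comm, mul_smul, ← h1, ← map_smul, hfree, map_zero]

end Groth.Agent.FiniteH1
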